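import Groth.Agent.ResProp.EF.Base

/-!
# Enough flats in `Comod A` gives `EF A`

Second seat for `EF56.StmtEFComod`.
-/

set_option autoImplicit false
set_option linter.dupNamespace false

open CategoryTheory CategoryTheory.Limits Opposite

namespace Groth.Agent.ResProp.EF.K985

open EF56 K784.BC K784.PM K741.RP

universe u

variable {A : NFᵒᵖ ⥤ CommRingCat.{u}}

instance modRf (M : PM.{u} A) (X : NFᵒᵖ) : Module ((rf A).obj X) (M.obj X.unop) := M.mod X.unop

/-- a `PM` as a presheaf of modules -/
noncomputable def ofPM (M : PM.{u} A) : PresheafOfModules.{u} (rf A) where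
  obj X := ModuleCat.of ((rf A).obj X) (M.obj X.unop)
  map {X Y} f := ModuleCat.ofHom (Y := (ModuleCat.restrictScalars ((rf A).map f).hom).obj
      (ModuleCat.of ((rf A).obj Y) (M.obj Y.unop)))
    { toFun := fun m => M.map f.unop m
      map_add' := fun a b => map_add _ a b
      map_smul' := fun r m => M.map_smul f.unop r m }
  map_id X := by
    ext m
    exact M.map_id X.unop m
  map_comp f g := by
    ext m
    exact M.map_comp g.unop f.unop m

theorem toPM_ofPM_cart {M : PM.{u} A} (h : M.Cart) : (toPM (ofPM M)).Cart := fun _ _ φ => h φ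

/-- cokernel of a map of cartesian modules -/
noncomputable def coker (F M : PM.{u} A) (q : ∀ a, F.obj a →ₗ[A.obj (op a)] M.obj a)
    (hq : ∀ ⦃a b : NF⦄ (φ : a ⟶ b) (e : F.obj b), q a (F.map φ e) = M.map φ (q b e)) : PM.{u} A where
  obj a := M.obj a ⧸ LinearMap.range (q a)
  map {a b} φ := QuotientAddGroup.map _ _ (M.map φ) (by
    rintro _ ⟨e, rfl⟩
    exact ⟨F.map φ e, hq φ e⟩)
  map_smul {a b} φ r m := by
    induction m using Submodule.Quotient.induction_on with
    | H x => exact congrArg (Submodule.Quotient.mk (p := LinearMap.range (q a))) (M.map_smul φ r x)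
  map_id z m := by
    induction m using Submodule.Quotient.induction_on with
    | H x => exact congrArg (Submodule.Quotient.mk (p := LinearMap.range (q z))) (M.map_id z x)
  map_comp {y x z} ψ φ m := by
    induction m using Submodule.Quotient.induction_on with
    | H e => exact congrArg (Submodule.Quotient.mk (p := LinearMap.range (q y))) (M.map_comp ψ φ e)

theorem coker_cart {F M : PM.{u} A} (hF : F.Cart) (hM : M.Cart) (q : ∀ a, F.obj a →ₗ[A.obj (op a)] M.obj a)
    (hq : ∀ ⦃a b : NF⦄ (φ : a ⟶ b) (e : F.obj b), q a (F.map φ e) = M.map φ (q b e)) : (coker F M q hq).Cart := by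
  intro a b φ
  refine isBC_quot (hM φ) (LinearMap.range (q b)) (LinearMap.range (q a)) ?_ _ fun x => rfl
  apply le_antisymm
  · rintro _ ⟨e, rfl⟩
    have : e ∈ Submodule.span (A.obj (op a)) (Set.range (F.map φ)) := by rw [(hF φ).span_range]; trivial
    induction this using Submodule.span_induction with
    | mem x h =>
      obtain ⟨y, rfl⟩ := h
      rw [hq]
      exact Submodule.subset_span ⟨q b y, ⟨y, rfl⟩, rfl⟩
    | zero => rw [map_zero]; exact Submodule.zero_mem _
    | add x y _ _ hx hy => rw [map_add]; exact Submodule.add_mem _ hx hy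
    | smul r x _ hx => rw [map_smul]; exact Submodule.smul_mem _ _ hx
  · rw [Submodule.span_le]
    rintro _ ⟨_, ⟨y, rfl⟩, rfl⟩
    exact ⟨F.map φ y, hq φ y⟩

theorem stmtEFComod : StmtEFComod.{u} := by
  intro A hA hE M hM
  let M' : Comod A := ⟨ofPM M, toPM_ofPM_cart hM⟩
  obtain ⟨F, q, hF, hq⟩ := hE M'
  let F' : PM.{u} A := toPM F.obj
  have hF' : F'.Cart := F.property
  let qq : ∀ a, F'.obj a →ₗ[A.obj (op a)] M.obj a := fun a => (q.hom.app (op a)).hom
  have hqq : ∀ ⦃a b : NF⦄ (φ : a ⟶ b) (e : F'.obj b), qq a (F'.map φ e) = M.map φ (qq b e) := fun a b φ e =>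
    (PresheafOfModules.naturality_apply q.hom φ.op e)
  refine ⟨F', qq, hF', hqq, hF, ?_⟩
  let Q : PM.{u} A := coker F' M qq hqq
  let Q' : Comod A := ⟨ofPM Q, toPM_ofPM_cart (coker_cart hF' hM qq hqq)⟩
  let π : M' ⟶ Q' := ObjectProperty.homMk
    { app := fun X => ModuleCat.ofHom (Submodule.mkQ (LinearMap.range (qq X.unop)))
      naturality := fun {X Y} f => by
        ext m
        rfl }
  have h0 : q ≫ π = q ≫ 0 := by
    ext X e
    change Submodule.mkQ (LinearMap.range (qq X.unop)) (qq X.unop e) = 0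
    rw [Submodule.mkQ_apply, Submodule.Quotient.mk_eq_zero]
    exact ⟨e, rfl⟩
  have h1 : π = 0 := (cancel_epi q).1 h0
  intro m
  have h2 : Submodule.mkQ (LinearMap.range (qq ⟨0⟩)) m = 0 := by
    have := congrArg (fun (r : M' ⟶ Q') => (r.hom.app (op ⟨0⟩)).hom m) h1
    exact this
  rw [Submodule.mkQ_apply, Submodule.Quotient.mk_eq_zero] at h2
  exact h2

end Groth.Agent.ResProp.EF.K985
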